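import Cfsg.Agent.KSG.ClsTools
import Cfsg.Agent.CLAS.SLBasic
import Cfsg.Agent.CLAS.UniGen
import Cfsg.Agent.S0243
import Cfsg.Agent.S1163
import Cfsg.Agent.S2325
import Cfsg.Agent.S2331
import Cfsg.Agent.S2480
import Cfsg.Agent.S2481
import Cfsg.Agent.S4201

/-! Class numbers of some linear and unitary groups. -/

set_option autoImplicit false
open Cfsg Subgroup Matrix

namespace CL.Cls

theorem k_le_center (X : Type*) [Group X] [Finite X] : Nat.card (ConjClasses X) ≤
    Nat.card (center X) * Nat.card (ConjClasses (X ⧸ center X)) :=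
  (Agent.S4201.result (center X)).trans (Nat.mul_le_mul_right _
    (Nat.card_le_card_of_surjective _ ConjClasses.mk_surjective))

variable {G : Type*} [Group G] {F : Type} [Field F] [Fintype F]

theorem k_L2 (e : G ≃* ProjectiveSpecialLinearGroup (Fin 2) F) :
    (Even (Fintype.card F) ∧ Nat.card (ConjClasses G) = Fintype.card F + 1) ∨
      2 * Nat.card (ConjClasses G) = Fintype.card F + 5 ∧
        2 * Nat.card G = Fintype.card F * (Fintype.card F ^ 2 - 1) := by
  rw [CL.Nil.card_conjClasses_congr e, Nat.card_congr e.toEquiv]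
  have h1 : _ ≤ _ * Nat.card (ConjClasses (ProjectiveSpecialLinearGroup (Fin 2) F)) :=
    k_le_center (SpecialLinearGroup (Fin 2) F)
  rw [CL.SL.card_center_SL, Nat.card_eq_fintype_card (α := F), Fintype.card_fin] at h1
  have hq := Fintype.one_lt_card (α := F)
  rcases Nat.even_or_odd (Fintype.card F) with h | h
  · have h2 : Nat.gcd 2 (Fintype.card F - 1) = 1 :=
      (Nat.coprime_two_left.2 (Nat.Even.sub_odd hq.le h odd_one))
    have : CharP F 2 := ringChar.of_eq (FiniteField.even_card_iff_char_two.2 (Nat.even_iff.1 h))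
    have h3 : Nat.card (ConjClasses (ProjectiveSpecialLinearGroup (Fin 2) F)) ≤ _ :=
      Nat.card_le_card_of_surjective _ (ConjClasses.map_surjective
        (QuotientGroup.mk'_surjective (center (SpecialLinearGroup (Fin 2) F))))
    rw [Agent.S2331.result] at h1 h3
    rw [h2, one_mul] at h1
    exact Or.inl ⟨h, le_antisymm h3 h1⟩
  · have h2 : Nat.gcd 2 (Fintype.card F - 1) = 2 :=
      Nat.gcd_eq_left (Nat.Odd.sub_odd h odd_one).two_dvd
    have h3 := (Agent.S2480.result (F := F) 2 le_rfl).2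
    have h4 := Agent.S0243.result (F := F) rfl 2 le_rfl
    rw [Agent.S2325.result h, h2] at h1
    rw [h2] at h3 h4
    have h5 := Nat.odd_iff.1 h
    refine Or.inr ⟨by simp at h3; omega, Nat.eq_of_mul_eq_mul_left (Nat.sub_pos_of_lt hq) ?_⟩
    rw [mul_left_comm, h4, Fin.prod_univ_two]
    simp only [Fin.val_zero, Fin.val_one, pow_zero, pow_one]
    rw [show Fintype.card F ^ 2 - Fintype.card F = (Fintype.card F - 1) * Fintype.card F by
      rw [sq, Nat.sub_one_mul]]
    ring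

theorem k_L3 {n : ℕ} (hn : 2 ≤ n) (hF : Fintype.card F = 2 ^ n)
    (e : G ≃* ProjectiveSpecialLinearGroup (Fin 3) F) (hk : Nat.card (ConjClasses G) ≤ 11) :
    Fintype.card F = 4 ∧ Nat.card G = 20160 := by
  rw [CL.Nil.card_conjClasses_congr e] at hk
  have h1 := (Agent.S2480.result (F := F) 3 (by norm_num)).1.trans
    (Nat.mul_le_mul (Nat.gcd_le_left _ three_pos) hk)
  obtain rfl : n = 2 := by
    by_contra h
    have := Nat.pow_le_pow_left (hF ▸ Nat.pow_le_pow_right two_pos (show 3 ≤ n by omega)) (3 - 1)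
    omega
  have h2 := Agent.S0243.result hF 3 (by norm_num)
  rw [← Nat.card_congr e.toEquiv] at h2
  simp [Fin.prod_univ_three] at h2
  exact ⟨hF, by omega⟩

theorem k_U3 {n : ℕ} (hn : 2 ≤ n) (hF : Fintype.card F = (2 ^ n) ^ 2)
    (e : G ≃* PSU 3 F (2 ^ n)) (hk : Nat.card (ConjClasses G) ≤ 11) : Nat.card G = 62400 := by
  rw [CL.Nil.card_conjClasses_congr e] at hk
  have h1 := (Agent.S2481.result 3 _ (by norm_num) hF).1.trans (k_le_center _)
  rw [CL.Uni.card_center_SU hF (by norm_num)] at h1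
  have h1 := h1.trans (Nat.mul_le_mul (Nat.gcd_le_left _ three_pos) hk)
  obtain rfl : n = 2 := by
    by_contra h
    have := Nat.pow_le_pow_left (Nat.pow_le_pow_right two_pos (show 3 ≤ n by omega)) (3 - 1)
    omega
  have h2 := CL.Uni.card_PSU hF (n := 3) (by norm_num)
  rw [← Nat.card_congr e.toEquiv] at h2
  simp [CL.Uni.guOrder, Finset.prod_range_succ] at h2
  omega

theorem card_Sz {m : ℕ} (hm : 1 ≤ m) (hF : Fintype.card F = 2 ^ (2 * m + 1))
    (e : G ≃* Lie.Sz F (2 ^ (m + 1))) :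
    29120 ≤ Nat.card G ∧ ¬ 3 ∣ Nat.card G ∧ (Nat.card G = 29120 → m = 1) := by
  rw [Nat.card_congr e.toEquiv, (Agent.S1163.result hm hF).1]
  have h1 : 2 ^ (2 * m + 1) % 3 = 2 := by rw [pow_succ, pow_mul, Nat.mul_mod, Nat.pow_mod]; simp
  have h2 : ∀ j, j ≤ m → 2 ^ (2 * j + 1) ≤ 2 ^ (2 * m + 1) := fun j hj =>
    Nat.pow_le_pow_right two_pos (by omega)
  have h3 : ∀ x, x ≤ 2 ^ (2 * m + 1) → x ^ 2 * (x - 1) * (x ^ 2 + 1) ≤
      (2 ^ (2 * m + 1)) ^ 2 * (2 ^ (2 * m + 1) - 1) * ((2 ^ (2 * m + 1)) ^ 2 + 1) :=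
    fun x hx => by gcongr
  refine ⟨h3 _ (h2 1 hm), ?_, fun h => ?_⟩
  · generalize 2 ^ (2 * m + 1) = q at h1
    have h4 : (q - 1) % 3 = 1 := by omega
    rw [Nat.dvd_iff_mod_eq_zero]
    simp [Nat.mul_mod, Nat.add_mod, Nat.pow_mod, h1, h4]
  · by_contra h4
    have := h3 _ (h2 2 (by omega))
    omega

end CL.Cls
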